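import Cfsg.Agent.ABG.Rk2
import Cfsg.Agent.PGrp.MaxClass
import Cfsg.Agent.BG.S4a

/-! Metacyclic `p`-groups with `p'`-automorphisms: `meta_odd` (a metacyclic 2-group with a nontrivial automorphism of odd
order is homocyclic or `Q₈`), `meta_fix`, `meta_fixed` (odd `p`). -/

set_option autoImplicit false

namespace Cfsg.Agent.ABG

open Subgroup Cfsg.Agent.PGrp Cfsg.Agent.Rank1
open scoped commutatorElement
open Cfsg.Agent.Invol hiding orderOf_conj'

variable {X : Type*} [Group X] {p : ℕ}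

theorem meta_gen (h : IsMetacyclic X) :
    ∃ c d : X, (∀ g, ∃ i j : ℤ, g = c ^ i * d ^ j) ∧ ∀ g, ∃ k : ℤ, g * c * g⁻¹ = c ^ k := by
  obtain ⟨N, hN, h1, h2⟩ := h
  obtain ⟨c, rfl⟩ := (Subgroup.isCyclic_iff_exists_zpowers_eq_top _).1 h1
  obtain ⟨d, hd⟩ := h2.exists_generator
  obtain ⟨d, rfl⟩ := QuotientGroup.mk_surjective d
  refine ⟨c, d, fun g => ?_, fun g => let ⟨k, hk⟩ := hN.conj_mem c (mem_zpowers c) g; ⟨k, hk.symm⟩⟩
  obtain ⟨j, hj⟩ := hd g
  obtain ⟨i, hi⟩ := hN.conj_mem _ (QuotientGroup.eq.1 ((QuotientGroup.mk_zpow _ d j).trans hj)) (d ^ j)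
  exact ⟨i, j, by rw [show c ^ i = _ from hi]; group⟩

theorem meta_surj {Y : Type*} [Group Y] (f : X →* Y) (hf : Function.Surjective f) (h : IsMetacyclic X) :
    IsMetacyclic Y :=
  BG4.metacyclic_top.1 (map_top_of_surjective f hf ▸ BG4.metacyclic_map f (BG4.metacyclic_top.2 h))

theorem meta_sub (h : IsMetacyclic X) (H : Subgroup X) : IsMetacyclic H :=
  BG4.metacyclic_sub le_top (BG4.metacyclic_top.2 h)

theorem card_le_of_gen [Finite X] {c d : X} (h : ∀ g, ∃ i j : ℤ, g = c ^ i * d ^ j) :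
    Nat.card X ≤ orderOf c * orderOf d := by
  rw [← Nat.card_zpowers, ← Nat.card_zpowers, ← Nat.card_prod]
  exact Nat.card_le_card_of_surjective (fun x => (x.1 : X) * x.2) fun g =>
    let ⟨i, j, e⟩ := h g; ⟨(⟨_, i, rfl⟩, ⟨_, j, rfl⟩), e.symm⟩

theorem pRankLE_of_meta [Finite X] (hp : 0 < p) (h : IsMetacyclic X) : PRankLE p 2 X := fun A _ hA => by
  obtain ⟨c, d, h1, -⟩ := meta_gen (meta_sub h A)
  have k : ∀ c : A, orderOf c ≤ p := fun c => orderOf_le_of_pow_eq_one hp (Subtype.ext (hA c c.2))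
  exact (card_le_of_gen h1).trans (sq p ▸ Nat.mul_le_mul (k c) (k d))

theorem sectional_of_meta [Finite X] (hp : 0 < p) (h : IsMetacyclic X) : SectionalPRankLE p 2 X := fun H N _ =>
  pRankLE_of_meta hp (meta_surj _ (QuotientGroup.mk'_surjective N) (meta_sub h H))

theorem tri_of_comm [Finite X] (hX : IsPGroup 2 X) (h2 : PRankLE 2 2 X) (hc : Comm (⊤ : Subgroup X)) {φ : MulAut X}
    (ho : OddEnd (φ : X →* X)) (hne : ∃ x, φ x ≠ x) : ∃ a, Tri φ a := by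
  obtain ⟨x, hx⟩ := hne
  obtain ⟨a, h1, h⟩ : ∃ a, a * a = 1 ∧ φ a ≠ a := by
    by_contra! h
    exact hx (fix_of_comm hX hc ho (fun _ _ => trivial) (fun a _ => h a) trivial)
  exact ⟨a, tri_of hX h2 (orderOf_two_iff.2 ⟨h1, by rintro rfl; exact h (map_one φ)⟩)
    (mem_center_iff.2 fun g => hc g trivial a trivial) h fun e => h (ho.fix_of_sq e)⟩

theorem Tri.fpf [Finite X] {φ : MulAut X} {a x : X} (h : Tri φ a) (hx : φ x = x) : x = 1 := by
  by_contra h1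
  obtain ⟨y, hy, h2, h3⟩ := Loc.exists_pow_eq_one_of_isPGroup (h.pg.to_subgroup (zpowers x)) (by simpa using h1)
  obtain ⟨k, rfl⟩ := mem_zpowers_iff.1 hy
  exact (h.of_ne ((pow_two _).symm.trans h3) h2).ne (by rw [map_zpow, hx])

theorem Tri.pow_eq_one [Finite X] {n : ℕ} (e : X ≃* Multiplicative (ZMod n × ZMod n)) (x : X) : x ^ n = 1 :=
  e.injective (by rw [map_pow, map_one]; apply Multiplicative.toAdd.injective; ext <;> simp)

/-- A metacyclic 2-group with a nontrivial automorphism of odd order is abelian or of maximal class. -/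
theorem meta_odd [Finite X] (hX : IsPGroup 2 X) (hm : IsMetacyclic X) {φ : MulAut X} (ho : OddEnd (φ : X →* X))
    (hne : ∃ x, φ x ≠ x) : Comm (⊤ : Subgroup X) ∨ IsMC X := by
  refine or_iff_not_imp_left.2 fun hnc => ?_
  obtain ⟨a, b, h1, h2⟩ := meta_gen hm
  obtain ⟨c, hc⟩ := (Subgroup.isCyclic_iff_exists_zpowers_eq_top _).1 (BG4.metacyclic_der_cyclic (BG4.metacyclic_top.2 hm))
  replace hc : zpowers c = commutator X := hc
  have hcc : c ∈ commutator X := hc ▸ mem_zpowers c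
  have hm' := (characteristic_iff_le_comap.1 (inferInstance : (commutator X).Characteristic)) φ
  obtain ⟨m, hm2⟩ := hX c
  have hφ : ∀ x ∈ commutator X, φ x = x := by
    rw [← hc]; rintro _ ⟨k, rfl⟩
    rw [map_zpow]; exact congrArg (· ^ k) (ho.fix_of_mem_zpowers hm2 (hc ▸ hm' hcc))
  let π := QuotientGroup.mk' (commutator X)
  have hπ : ∀ x, π x = 1 ↔ x ∈ commutator X := fun x => QuotientGroup.eq_one_iff x
  let ψ : MulAut (X ⧸ commutator X) := QuotientGroup.congr _ _ φ (characteristic_iff_map_eq.1 inferInstance φ)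
  have hψ : ∀ x, ψ (π x) = π (φ x) := fun _ => rfl
  have hab : Comm (⊤ : Subgroup (X ⧸ commutator X)) := fun x _ y _ =>
    (Subgroup.Normal.quotient_commutative_iff_commutator_le.2 le_rfl).is_comm.comm x y
  obtain ⟨v, T⟩ := tri_of_comm (hX.to_quotient _) (pRankLE_of_meta two_pos (meta_surj π (QuotientGroup.mk'_surjective _) hm))
    hab (φ := ψ) (ho.quot _ hm') (by
      obtain ⟨x, hx⟩ := hne
      refine ⟨π x, fun e => hx ?_⟩
      have k := QuotientGroup.eq.1 e.symm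
      obtain ⟨j, hj⟩ := hX (x⁻¹ * φ x)
      exact ho.fix_of_mul hj (hφ _ k) (by simp))
  obtain ⟨n, hn, h3, ⟨e⟩, -⟩ := T.homo hab
  obtain rfl | hn := hn.eq_or_lt
  · exact isMC_of_index_le hX (fun k => hnc fun x _ y _ => k.is_comm.comm x y) h3.le
  have h4 : ∀ x, ∃ y, ∃ z ∈ commutator X, x = y⁻¹ * φ y * z := fun x => by
    obtain ⟨y, hy⟩ := (Finite.injective_iff_surjective (f := fun y => y⁻¹ * ψ y)).1 (fun y y' k => by
      have k : y⁻¹ * ψ y = y'⁻¹ * ψ y' := k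
      refine mul_inv_eq_one.1 (T.fpf ?_)
      rw [map_mul, map_inv, inv_mul_eq_iff_eq_mul.1 k]; group) (π x)
    obtain ⟨y, rfl⟩ := QuotientGroup.mk'_surjective _ y
    exact ⟨y, _, QuotientGroup.eq.1 hy, (mul_inv_cancel_left _ x).symm⟩
  have h5 : ∀ z ∈ commutator X, ∀ x, Commute x z := fun z hz x => by
    obtain ⟨y, w, hw, rfl⟩ := h4 x
    have k := hφ _ ((inferInstance : (commutator X).Normal).conj_mem z hz y)
    rw [map_mul, map_mul, hφ z hz, map_inv] at k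
    rw [← hc] at hz hw
    obtain ⟨i, rfl⟩ := hw
    obtain ⟨j, rfl⟩ := hz
    refine Commute.mul_left ?_ ((Commute.refl c).zpow_zpow i j)
    rw [Commute, SemiconjBy, mul_assoc, mul_inv_eq_iff_eq_mul.1 k]; group
  have h6 : ∀ x, x ^ 2 ^ n ∈ commutator X := fun x => (hπ _).1 (by rw [map_pow, Tri.pow_eq_one e])
  obtain ⟨n, rfl⟩ : ∃ k, n = k + 2 := ⟨n - 2, by omega⟩
  have h7 : ∀ z ∈ commutator X, ∀ k : ℕ, z ^ (2 * k) ∈ zpowers (c ^ 2) := by
    rw [← hc]; rintro _ ⟨j, rfl⟩ k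
    exact ⟨j * k, by simp only [← zpow_natCast, ← zpow_mul]; congr 1; push_cast; ring⟩
  have h8 : ∀ x y : X, ∃ z ∈ zpowers (c ^ 2), (x * y) ^ 2 ^ (n + 2) = z * (x ^ 2 ^ (n + 2) * y ^ 2 ^ (n + 2)) := fun x y => by
    have k := commutator_mem_commutator (mem_top y) (mem_top x)
    refine ⟨_, ?_, mul_pow_of_commute_commutator (h5 _ k x).symm (h5 _ k y).symm _⟩
    rw [Nat.choose_two_right, pow_succ' 2 (n + 1), mul_assoc, Nat.mul_div_cancel_left _ two_pos, pow_succ' 2 n, mul_assoc]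
    exact h7 _ k _
  have h9 : a ^ 2 ^ (n + 2) ∈ zpowers (c ^ 2) := by
    obtain ⟨y, w, hw, k⟩ := h4 a
    obtain ⟨z, hz, k1⟩ := h8 (y⁻¹ * φ y) w
    obtain ⟨z', hz', k2⟩ := h8 y⁻¹ (φ y)
    rw [k, k1, k2, ← map_pow, hφ _ (h6 y), inv_pow, inv_mul_cancel, mul_one, pow_succ' 2]
    exact mul_mem hz (mul_mem hz' (h7 w hw _))
  have h10 : orderOf (π a) = 2 ^ (n + 2) := by
    have k := card_le_of_gen (c := π a) (d := π b) fun g => by
      obtain ⟨g, rfl⟩ := QuotientGroup.mk'_surjective _ g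
      obtain ⟨i, j, rfl⟩ := h1 g
      exact ⟨i, j, by simp [π]⟩
    have k2 := fun x => Nat.le_of_dvd (by positivity) (orderOf_dvd_of_pow_eq_one (Tri.pow_eq_one e x))
    refine (k2 _).antisymm (Nat.le_of_mul_le_mul_right (c := 2 ^ (n + 2)) ?_ (by positivity))
    rw [← pow_add, ← two_mul, ← h3]
    exact k.trans (Nat.mul_le_mul_left _ (k2 _))
  have hN : (zpowers a).Normal := ⟨by
    rintro _ ⟨i, rfl⟩ g
    obtain ⟨k, hk⟩ := h2 g
    exact ⟨k * i, by simp only [← conj_zpow, hk, zpow_mul]⟩⟩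
  obtain ⟨k, hk⟩ : ∃ k : ℤ, a ^ k = c := (Subgroup.Normal.quotient_commutative_iff_commutator_le (N := zpowers a)).1 ⟨⟨fun x y => by
    obtain ⟨x, rfl⟩ := QuotientGroup.mk'_surjective _ x
    obtain ⟨y, rfl⟩ := QuotientGroup.mk'_surjective _ y
    obtain ⟨i, j, rfl⟩ := h1 x
    obtain ⟨i', j', rfl⟩ := h1 y
    have : QuotientGroup.mk' (zpowers a) a = 1 := (QuotientGroup.eq_one_iff a).2 (mem_zpowers a)
    simp only [map_mul, map_zpow, this, one_zpow, one_mul, zpow_mul_comm]⟩⟩ hcc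
  obtain ⟨l, rfl⟩ : ((2 ^ (n + 2) : ℕ) : ℤ) ∣ k := by
    rw [← h10, orderOf_dvd_iff_zpow_eq_one, ← map_zpow]; exact (hπ _).2 (hk ▸ hcc)
  obtain ⟨j, hj⟩ := mem_zpowers_iff.1 (zpow_mem h9 l)
  have : c = 1 := eq_one_of_zpow_odd hm2 (k := 2 * j - 1) (by simp) (by
    rw [zpow_sub_one, zpow_mul, mul_inv_eq_one, zpow_ofNat, hj, ← hk, zpow_mul, zpow_natCast])
  exact absurd (fun x _ y _ => commutatorElement_eq_one_iff_mul_comm.1 (mem_bot.1 (by
    rw [← zpowers_one_eq_bot, ← this, hc]; exact commutator_mem_commutator (mem_top x) (mem_top y)))) hnc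

theorem meta_odd' [Finite X] (hX : IsPGroup 2 X) (hm : IsMetacyclic X) {φ : MulAut X} (ho : OddEnd (φ : X →* X))
    (hne : ∃ x, φ x ≠ x) : (Comm (⊤ : Subgroup X) ∧ ∃ a, Tri φ a) ∨ (IsMC X ∧ Nonempty (X ≃* QuaternionGroup 2)) :=
  (meta_odd hX hm ho hne).imp (fun h => ⟨h, tri_of_comm hX (pRankLE_of_meta two_pos hm) h ho hne⟩)
    fun ⟨a, x, n, h⟩ => ⟨⟨a, x, n, h⟩, (four_or_quat_of_cyclic_index hX h.idx.dvd ho hne).resolve_left
      fun _ => h.not_comm IsKleinFour.isMulCommutative⟩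

/-- An abelian subgroup `R` of index two and exponent `2 ^ (n + 2)` in a metacyclic 2-group: `2 ^ (n + 1)`-th powers are
central. -/
theorem meta_fix [Finite X] (hX : IsPGroup 2 X) (hm : IsMetacyclic X) {R : Subgroup X} (hc : Comm R)
    (hi : ∀ g ∉ R, ∀ h ∉ R, g * h ∈ R) {n : ℕ} (he : ∀ x ∈ R, x ^ 2 ^ (n + 2) = 1) {x : X} (hx : x ∈ R) (g : X) :
    Commute g (x ^ 2 ^ (n + 1)) := by
  obtain ⟨c, d, h1, h2⟩ := meta_gen hm
  have hw := pow_mem hx (2 ^ (n + 1))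
  have hodd : ∀ g, ∃ k : ℤ, g * c * g⁻¹ = c ^ (2 * k + 1) := fun g => by
    obtain ⟨k, hk⟩ := h2 g
    obtain ⟨m, hm⟩ := IsPGroup.iff_orderOf.1 hX c
    obtain rfl | h0 := Nat.eq_zero_or_pos m
    · exact ⟨0, by simp [orderOf_eq_one_iff.1 hm]⟩
    · obtain ⟨l, rfl⟩ := odd_of_conj hm h0 hk
      exact ⟨l, hk⟩
  have key : ∀ u ∉ R, Commute u (x ^ 2 ^ (n + 1)) → Commute g (x ^ 2 ^ (n + 1)) := fun u hu h => by
    by_cases hg : g ∈ R
    · exact hc _ hg _ hw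
    · simpa using Commute.mul_left (hc _ (hi g hg u hu) _ hw) h.inv_left
  by_cases hcR : c ∈ R
  · by_cases hd : d ∈ R
    · obtain ⟨i, j, rfl⟩ := h1 g
      exact hc _ (mul_mem (zpow_mem hcR i) (zpow_mem hd j)) _ hw
    refine key d hd ?_
    obtain ⟨i, j, e⟩ := h1 x
    obtain ⟨k, hk⟩ := hodd d
    have e1 : d * x * d⁻¹ = (c ^ (k * i)) ^ 2 * x := by
      rw [e, ← conj_mul, ← conj_zpow, hk]; group
    have e2 : Commute ((c ^ (k * i)) ^ 2) x := hc _ (pow_mem (zpow_mem hcR _) 2) _ hx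
    refine mul_inv_eq_iff_eq_mul.1 ?_
    rw [← conj_pow, e1, e2.mul_pow, ← pow_mul, ← pow_succ', he _ (zpow_mem hcR _), one_mul]
  · refine key c hcR (pow_succ' 2 n ▸ pow_mul x 2 _ ▸ Commute.pow_right ?_ _)
    obtain ⟨k, hk⟩ := hodd x
    have e1 : (c ^ (2 * k + 1)) ^ 2 = c ^ 2 := by
      rw [← hk, conj_pow, sq, hc _ hx _ (hi c hcR c hcR), mul_inv_cancel_right]
    have e2 : c ^ (4 * k) = 1 := mul_right_cancel (b := c ^ 2) (by rw [one_mul, ← e1]; nth_rw 1 [e1]; group)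
    have e3 : x ^ 2 * c * (x ^ 2)⁻¹ = c := by
      rw [show x ^ 2 * c * (x ^ 2)⁻¹ = x * (x * c * x⁻¹) * x⁻¹ by rw [sq]; group, hk, ← conj_zpow, hk, ← zpow_mul,
        show (2 * k + 1) * (2 * k + 1) = 4 * k * (k + 1) + 1 by ring, zpow_add_one, zpow_mul, e2, one_zpow, one_mul]
    exact (mul_inv_eq_iff_eq_mul.1 e3).symm

open Cfsg.Agent.Transfer in
/-- BG 4.12: a `p'`-group of automorphisms of a non-abelian metacyclic `p`-group (`p` odd) fixes an element of order `p`. -/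
theorem meta_fixed [Finite X] [Fact p.Prime] (h2 : p ≠ 2) (hX : IsPGroup p X) (hm : IsMetacyclic X)
    (hc : ¬ IsMulCommutative X) {A : Subgroup (MulAut X)} (hA : (Nat.card A).Coprime p) :
    ∃ x : X, x ≠ 1 ∧ x ^ p = 1 ∧ ∀ a ∈ A, a x = x := by
  have hR := isPGroup_sdL (MonoidHom.id (MulAut X)) (hX.to_subgroup ⊤)
  obtain ⟨h1, h3, -⟩ := BG.coprime_metacyclic_cent_sdprod hR (BG4.odd_of_ne_two hR h2)
    ((BG.p'nat_coprime Fact.out).mpr (by rwa [card_sdR])) (BG4.metacyclic_map _ (BG4.metacyclic_top.2 hm))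
    (sdR_le_normalizer_top _ A)
  obtain ⟨_, ⟨⟨x, -, rfl⟩, hx⟩, h4, h5⟩ := Loc.exists_pow_eq_one_of_isPGroup (hR.to_le inf_le_left) fun e => hc (by
    have k := h3.sup
    rw [e, sup_bot_eq] at k
    rw [k] at h1
    exact ⟨⟨fun x y => SemidirectProduct.inl_injective (φ := MonoidHom.id _) (by
      rw [map_mul, map_mul]; exact congrArg Subtype.val (h1.is_comm.comm ⟨_, x, trivial, rfl⟩ ⟨_, y, trivial, rfl⟩))⟩⟩)
  exact ⟨x, fun e => h4 (by rw [e, map_one]), SemidirectProduct.inl_injective (by rw [map_pow, h5, map_one]),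
    (inl_mem_centralizer_sdR _).1 hx⟩

end Cfsg.Agent.ABG
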